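import Cfsg.Agent.Lib.TCX.He.D0

set_option autoImplicit false
set_option maxRecDepth 100000
set_option Elab.async false

namespace Cfsg.Agent.TCX.He

noncomputable def l0t0 : Bt Nat := (.node (.node (.node l0t0_0 l0t0_4) (.node l0t0_2 l0t0_6)) (.node (.node l0t0_1 l0t0_5) (.node l0t0_3 l0t0_7)))
noncomputable def l0t1 : Bt Nat := (.node (.node (.node l0t1_0 l0t1_4) (.node l0t1_2 l0t1_6)) (.node (.node l0t1_1 l0t1_5) (.node l0t1_3 l0t1_7)))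
noncomputable def l0t2 : Bt Nat := (.node (.node (.node l0t2_0 l0t2_4) (.node l0t2_2 l0t2_6)) (.node (.node l0t2_1 l0t2_5) (.node l0t2_3 l0t2_7)))
noncomputable def l0t3 : Bt Nat := (.node (.node (.node l0t3_0 l0t3_4) (.node l0t3_2 l0t3_6)) (.node (.node l0t3_1 l0t3_5) (.node l0t3_3 l0t3_7)))
noncomputable def l0t4 : Bt Nat := (.node (.node (.node l0t4_0 l0t4_4) (.node l0t4_2 l0t4_6)) (.node (.node l0t4_1 l0t4_5) (.node l0t4_3 l0t4_7)))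
noncomputable def l0t5 : Bt Nat := (.node (.node (.node l0t5_0 l0t5_4) (.node l0t5_2 l0t5_6)) (.node (.node l0t5_1 l0t5_5) (.node l0t5_3 l0t5_7)))
noncomputable def l0t6 : Bt Nat := (.node (.node (.node l0t6_0 l0t6_4) (.node l0t6_2 l0t6_6)) (.node (.node l0t6_1 l0t6_5) (.node l0t6_3 l0t6_7)))
noncomputable def l0t7 : Bt Nat := (.node (.node (.node l0t7_0 l0t7_4) (.node l0t7_2 l0t7_6)) (.node (.node l0t7_1 l0t7_5) (.node l0t7_3 l0t7_7)))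
noncomputable def l0t8 : Bt Nat := (.node (.node (.node l0t8_0 l0t8_4) (.node l0t8_2 l0t8_6)) (.node (.node l0t8_1 l0t8_5) (.node l0t8_3 l0t8_7)))
noncomputable def l0r0 : Bt Ru := (.node (.node (.node (.node (.leaf ⟨[0],10,0⟩) (.leaf ⟨[3,0,3],11,0⟩)) (.node (.leaf ⟨[5,0,5],13,0⟩) (.leaf ⟨[0],10,0⟩))) (.node (.node (.leaf ⟨[2,0,2],20,0⟩) (.leaf ⟨[1,2,0,1,2,0,1,2,4],33,0⟩)) (.node (.leaf ⟨[2,3,2,3,2,3,2,3,2,3],28,10⟩) (.leaf ⟨[0],10,0⟩)))) (.node (.node (.node (.leaf ⟨[1,0,1,0,1,0,1],15,0⟩) (.leaf ⟨[1,2,4,0,1,2,0,1,2],33,6⟩)) (.node (.leaf ⟨[4,0,4],12,0⟩) (.leaf ⟨[0],10,0⟩))) (.node (.node (.leaf ⟨[6,0,6],14,0⟩) (.leaf ⟨[3,2,3,2,3,2,3,2,3,2],29,0⟩)) (.node (.leaf ⟨[2,1,0,4,2,1,0,2,1],30,6⟩) (.leaf ⟨[0],10,0⟩)))))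
noncomputable def l0r1 : Bt Ru := (.node (.node (.node (.node (.leaf ⟨[1],0,0⟩) (.leaf ⟨[2,0,1,2,4,0,1,2,0],33,4⟩)) (.node (.leaf ⟨[6,1,6],4,0⟩) (.leaf ⟨[0,2,1,0,4,2,1,0,2],30,5⟩))) (.node (.node (.leaf ⟨[3,1,3],1,0⟩) (.leaf ⟨[2,4,0,1,2,0,1,2,0],33,7⟩)) (.node (.leaf ⟨[0,1,0,1,0,1,0],15,7⟩) (.leaf ⟨[1],0,0⟩)))) (.node (.node (.node (.leaf ⟨[2,1,2,1,2],5,0⟩) (.leaf ⟨[0,4,2,1,0,2,1,0,2],30,8⟩)) (.node (.leaf ⟨[5,1,5],3,0⟩) (.leaf ⟨[1],0,0⟩))) (.node (.node (.leaf ⟨[4,1,4],2,0⟩) (.leaf ⟨[2,0,1,2,0,1,2,4,0],33,1⟩)) (.node (.leaf ⟨[0,2,1,0,2,1,0,4,2],30,2⟩) (.leaf ⟨[1],0,0⟩)))))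
noncomputable def l0r2 : Bt Ru := (.node (.node (.node (.node (.node (.leaf ⟨[2],6,0⟩) (.leaf ⟨[1,0,2,1,0,4,2,1,0],30,4⟩)) (.node (.leaf ⟨[3,2,0,3,2,3,2,3,2,3],29,8⟩) (.leaf ⟨[2],6,0⟩))) (.node (.node (.leaf ⟨[6,2,6],9,0⟩) (.leaf ⟨[2],6,0⟩)) (.node (.leaf ⟨[3,2,3,2,3,2,3,2,0,3],29,2⟩) (.leaf ⟨[2],6,0⟩)))) (.node (.node (.node (.leaf ⟨[4,2,4],7,0⟩) (.leaf ⟨[3,2,3,2,3,2,3,2,3,0],28,0⟩)) (.node (.leaf ⟨[0,3,2,3,2,3,2,3,2,3],29,10⟩) (.leaf ⟨[2],6,0⟩))) (.node (.node (.leaf ⟨[1,0,2,1,0,2,1,0,4],30,1⟩) (.leaf ⟨[2],6,0⟩)) (.node (.leaf ⟨[4,0,1,2,0,1,2,0,1],33,8⟩) (.leaf ⟨[2],6,0⟩))))) (.node (.node (.node (.node (.leaf ⟨[1,2,1,2,1],5,5⟩) (.leaf ⟨[0,1,2,4,0,1,2,0,1],33,5⟩)) (.node (.leaf ⟨[6,5,3,2,6,5,3,2,6,5,3,2,6,5,3],27,15⟩) (.leaf ⟨[2],6,0⟩)))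 (.node (.node (.leaf ⟨[5,2,5],8,0⟩) (.leaf ⟨[2],6,0⟩)) (.node (.leaf ⟨[3,2,3,2,3,2,0,3,2,3],29,4⟩) (.leaf ⟨[2],6,0⟩)))) (.node (.node (.node (.leaf ⟨[0,2,0],20,3⟩) (.leaf ⟨[2],6,0⟩)) (.node (.leaf ⟨[3,2,3,2,0,3,2,3,2,3],29,6⟩) (.leaf ⟨[2],6,0⟩))) (.node (.node (.leaf ⟨[3,5,6,2,3,5,6,2,3,5,6,2,3,5,6],32,0⟩) (.leaf ⟨[2],6,0⟩)) (.node (.leaf ⟨[1,0,4,2,1,0,2,1,0],30,7⟩) (.leaf ⟨[2],6,0⟩))))))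
noncomputable def l0r3 : Bt Ru := (.node (.node (.node (.node (.leaf ⟨[1,3,1],1,3⟩) (.leaf ⟨[5,6,2,3,5,6,2,3,5,6,2,3,5,6,2],32,13⟩)) (.node (.leaf ⟨[6,3,6,3,6],22,5⟩) (.leaf ⟨[2,3,2,3,2,0,3,2,3,2],29,5⟩))) (.node (.node (.leaf ⟨[3],16,0⟩) (.leaf ⟨[2,3,2,3,2,3,2,3,2,0],29,1⟩)) (.node (.leaf ⟨[2,6,5,3,2,6,5,3,2,6,5,3,2,6,5],27,14⟩) (.leaf ⟨[3],16,0⟩)))) (.node (.node (.node (.leaf ⟨[0,3,0],11,3⟩) (.leaf ⟨[2,0,3,2,3,2,3,2,3,2],29,9⟩)) (.node (.leaf ⟨[5,3,5,3,5],25,5⟩) (.leaf ⟨[0,2,3,2,3,2,3,2,3,2],28,9⟩))) (.node (.node (.leaf ⟨[4,3,4,3,4],19,5⟩) (.leaf ⟨[2,3,2,3,2,3,2,0,3,2],29,3⟩)) (.node (.leaf ⟨[2,3,2,0,3,2,3,2,3,2],29,7⟩) (.leaf ⟨[3],16,0⟩)))))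
noncomputable def l0r4 : Bt Ru := (.node (.node (.node (.node (.leaf ⟨[1,4,1],2,3⟩) (.leaf ⟨[6,5,6,5],26,0⟩)) (.node (.leaf ⟨[5,4,5],23,0⟩) (.leaf ⟨[4],17,0⟩))) (.node (.node (.leaf ⟨[0,4,0],12,3⟩) (.leaf ⟨[0,1,2,0,1,2,0,1,2],33,9⟩)) (.node (.leaf ⟨[3,4,3,4,3],19,0⟩) (.leaf ⟨[4],17,0⟩)))) (.node (.node (.node (.leaf ⟨[2,4,2],7,3⟩) (.leaf ⟨[2,1,0,2,1,0,2,1,0],30,0⟩)) (.node (.leaf ⟨[6,4,6],24,0⟩) (.leaf ⟨[4],17,0⟩))) (.node (.node (.leaf ⟨[4],17,0⟩) (.leaf ⟨[4],17,0⟩)) (.node (.leaf ⟨[5,6,5,6],31,4⟩) (.leaf ⟨[4],17,0⟩)))))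
noncomputable def l0r5 : Bt Ru := (.node (.node (.node (.node (.leaf ⟨[1,5,1],3,3⟩) (.leaf ⟨[6,4,5,6],31,2⟩)) (.node (.leaf ⟨[4,5,4],23,3⟩) (.leaf ⟨[5],21,0⟩))) (.node (.node (.leaf ⟨[0,5,0],13,3⟩) (.leaf ⟨[6,2,3,5,6,2,3,5,6,2,3,5,6,2,3],32,14⟩)) (.node (.leaf ⟨[3,5,3,5,3],25,0⟩) (.leaf ⟨[5],21,0⟩)))) (.node (.node (.node (.leaf ⟨[2,5,2],8,3⟩) (.leaf ⟨[6,5,6,4],31,0⟩)) (.node (.leaf ⟨[6,5,4,6],26,2⟩) (.leaf ⟨[5],21,0⟩))) (.node (.node (.leaf ⟨[5],21,0⟩) (.leaf ⟨[4,6,5,6],26,4⟩)) (.node (.leaf ⟨[3,2,6,5,3,2,6,5,3,2,6,5,3,2,6],27,13⟩) (.leaf ⟨[5],21,0⟩)))))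
noncomputable def l0r6 : Bt Ru := (.node (.node (.node (.node (.leaf ⟨[1,6,1],4,3⟩) (.leaf ⟨[5,3,2,6,5,3,2,6,5,3,2,6,5,3,2],27,0⟩)) (.node (.leaf ⟨[4,6,4],24,3⟩) (.leaf ⟨[6],18,0⟩))) (.node (.node (.leaf ⟨[0,6,0],14,3⟩) (.leaf ⟨[2,3,5,6,2,3,5,6,2,3,5,6,2,3,5],32,15⟩)) (.node (.leaf ⟨[4,5,6,5],31,3⟩) (.leaf ⟨[6],18,0⟩)))) (.node (.node (.node (.leaf ⟨[2,6,2],9,3⟩) (.leaf ⟨[5,6,5,4],26,1⟩)) (.node (.leaf ⟨[3,6,3,6,3],22,0⟩) (.leaf ⟨[6],18,0⟩))) (.node (.node (.leaf ⟨[6],18,0⟩) (.leaf ⟨[5,6,4,5],31,1⟩)) (.node (.leaf ⟨[5,4,6,5],26,3⟩) (.leaf ⟨[6],18,0⟩)))))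
noncomputable def l0r7 : Bt Ru := (.node (.node (.node (.leaf ⟨[2,0,2,0],20,3⟩) (.leaf ⟨[1,2,1,2,1,2],5,0⟩)) (.node (.leaf ⟨[2,6,5,3,2,6,5,3,2,6,5,3,2,6,5,3],27,15⟩) (.leaf ⟨[0,0],10,0⟩))) (.node (.node (.leaf ⟨[5,6,2,3,5,6,2,3,5,6,2,3,5,6,2,3],32,14⟩) (.leaf ⟨[0,0],10,0⟩)) (.node (.leaf ⟨[4,6,5,6,5],26,0⟩) (.leaf ⟨[0,0],10,0⟩))))
noncomputable def l1r0 : Bt Ru := (.node (.node (.node (.leaf ⟨[0],10,0⟩) (.leaf ⟨[5,0,5],13,0⟩)) (.node (.leaf ⟨[3,0,3],11,0⟩) (.leaf ⟨[2,3,2,3,2,3,2,3,2,3],28,10⟩))) (.node (.node (.leaf ⟨[2,0,2],20,0⟩) (.leaf ⟨[6,0,6],14,0⟩)) (.node (.leaf ⟨[4,0,4],12,0⟩) (.leaf ⟨[4,2,1,0,2,1,0,2,1],30,9⟩))))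
noncomputable def l1r1 : Bt Ru := (.node (.node (.node (.leaf ⟨[1],0,0⟩) (.leaf ⟨[4,1,4],2,0⟩)) (.node (.leaf ⟨[2,1,2,1,2],5,0⟩) (.leaf ⟨[1],0,0⟩))) (.node (.node (.leaf ⟨[0,2,1,0,2,1,0,4,2],30,2⟩) (.leaf ⟨[1],0,0⟩)) (.node (.leaf ⟨[3,1,3],1,0⟩) (.leaf ⟨[1],0,0⟩))))
noncomputable def l1r2 : Bt Ru := (.node (.node (.node (.node (.leaf ⟨[2],6,0⟩) (.leaf ⟨[1,2,1,2,1],5,5⟩)) (.node (.leaf ⟨[0,2,0],20,3⟩) (.leaf ⟨[2],6,0⟩))) (.node (.node (.leaf ⟨[4,2,4],7,0⟩) (.leaf ⟨[2],6,0⟩)) (.node (.leaf ⟨[6,5,3,2,6,5,3,2,6,5,3,2,6,5,3],27,15⟩) (.leaf ⟨[2],6,0⟩)))) (.node (.node (.node (.leaf ⟨[6,2,6],9,0⟩) (.leaf ⟨[2],6,0⟩)) (.node (.leaf ⟨[3,2,0,3,2,3,2,3,2,3],29,8⟩) (.leaf ⟨[2],6,0⟩))) (.node (.node (.leaf ⟨[5,2,5],8,0⟩) (.leaf ⟨[2],6,0⟩)) (.node (.leaf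 ⟨[3,5,6,2,3,5,6,2,3,5,6,2,3,5,6],32,0⟩) (.leaf ⟨[2],6,0⟩)))))
noncomputable def l1r3 : Bt Ru := (.node (.node (.node (.node (.leaf ⟨[0,3,0],11,3⟩) (.leaf ⟨[2,0,3,2,3,2,3,2,3,2],29,9⟩)) (.node (.leaf ⟨[5,3,5,3,5],25,5⟩) (.leaf ⟨[3],16,0⟩))) (.node (.node (.leaf ⟨[2,3,2,3,2,3,2,0,3,2],29,3⟩) (.leaf ⟨[3],16,0⟩)) (.node (.leaf ⟨[2,3,2,0,3,2,3,2,3,2],29,7⟩) (.leaf ⟨[3],16,0⟩)))) (.node (.node (.node (.leaf ⟨[3],16,0⟩) (.leaf ⟨[1,3,1],1,3⟩)) (.node (.leaf ⟨[6,3,6,3,6],22,5⟩) (.leaf ⟨[3],16,0⟩))) (.node (.node (.leaf ⟨[4,3,4,3,4],19,5⟩) (.leaf ⟨[3],16,0⟩)) (.node (.leaf ⟨[5,6,2,3,5,6,2,3,5,6,2,3,5,6,2],32,13⟩) (.leaf ⟨[3],16,0⟩)))))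
noncomputable def l1r4 : Bt Ru := (.node (.node (.node (.leaf ⟨[2,4,2],7,3⟩) (.leaf ⟨[6,4,6],24,0⟩)) (.node (.leaf ⟨[4],17,0⟩) (.leaf ⟨[3,4,3,4,3],19,0⟩))) (.node (.node (.leaf ⟨[0,4,0],12,3⟩) (.leaf ⟨[6,5,6,5],26,0⟩)) (.node (.leaf ⟨[5,4,5],23,0⟩) (.leaf ⟨[1,4,1],2,3⟩))))
noncomputable def l1r5 : Bt Ru := (.node (.node (.node (.node (.leaf ⟨[2,5,2],8,3⟩) (.leaf ⟨[6,5,6,4],31,0⟩)) (.node (.leaf ⟨[4,5,4],23,3⟩) (.leaf ⟨[5],21,0⟩))) (.node (.node (.leaf ⟨[5],21,0⟩) (.leaf ⟨[5],21,0⟩)) (.node (.leaf ⟨[6,5,4,6],26,2⟩) (.leaf ⟨[5],21,0⟩)))) (.node (.node (.node (.leaf ⟨[0,5,0],13,3⟩) (.leaf ⟨[3,2,6,5,3,2,6,5,3,2,6,5,3,2,6],27,13⟩)) (.node (.leaf ⟨[3,5,3,5,3],25,0⟩) (.leaf ⟨[5],21,0⟩))) (.node (.node (.leaf ⟨[6,2,3,5,6,2,3,5,6,2,3,5,6,2,3],32,14⟩)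 (.leaf ⟨[5],21,0⟩)) (.node (.leaf ⟨[4,6,5,6],26,4⟩) (.leaf ⟨[5],21,0⟩)))))
noncomputable def l1r6 : Bt Ru := (.node (.node (.node (.leaf ⟨[2,6,2],9,3⟩) (.leaf ⟨[3,6,3,6,3],22,0⟩)) (.node (.leaf ⟨[6],18,0⟩) (.leaf ⟨[5,6,4,5],31,1⟩))) (.node (.node (.leaf ⟨[0,6,0],14,3⟩) (.leaf ⟨[5,4,6,5],26,3⟩)) (.node (.leaf ⟨[4,6,4],24,3⟩) (.leaf ⟨[5,3,2,6,5,3,2,6,5,3,2,6,5,3,2],27,0⟩))))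
noncomputable def l1r7 : Bt Ru := (.node (.node (.node (.leaf ⟨[2,5,2,5],8,0⟩) (.leaf ⟨[2,3,5,6,2,3,5,6,2,3,5,6,2,3,5,6],32,0⟩)) (.node (.leaf ⟨[5,6,5,6,4],31,0⟩) (.leaf ⟨[3,0,3,0],11,3⟩))) (.node (.node (.leaf ⟨[4,5,6,5,6],31,4⟩) (.leaf ⟨[3,2,3,2,3,2,3,2,3,0,2],28,1⟩)) (.node (.leaf ⟨[3,5,6,2,3,5,6,2,3,5,6,2,3,5,6,2],32,13⟩) (.leaf ⟨[1,0,2,1,0,2,1,0,4,2],30,2⟩))))
noncomputable def l2r0 : Bt Ru := (.leaf ⟨[0],10,0⟩)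
noncomputable def l2r1 : Bt Ru := (.leaf ⟨[1],0,0⟩)
noncomputable def l2r2 : Bt Ru := (.leaf ⟨[2],6,0⟩)
noncomputable def l2r3 : Bt Ru := (.node (.node (.leaf ⟨[3],16,0⟩) (.leaf ⟨[5,3,5,3,5],25,5⟩)) (.node (.leaf ⟨[4,3,4,3,4],19,5⟩) (.leaf ⟨[6,3,6,3,6],22,5⟩)))
noncomputable def l2r4 : Bt Ru := (.node (.node (.leaf ⟨[4],17,0⟩) (.leaf ⟨[6,4,6],24,0⟩)) (.node (.leaf ⟨[5,4,5],23,0⟩) (.leaf ⟨[3,4,3,4,3],19,0⟩)))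
noncomputable def l2r5 : Bt Ru := (.node (.node (.leaf ⟨[5],21,0⟩) (.leaf ⟨[4,5,4],23,3⟩)) (.node (.leaf ⟨[6,5,4,6],26,2⟩) (.leaf ⟨[3,5,3,5,3],25,0⟩)))
noncomputable def l2r6 : Bt Ru := (.node (.node (.node (.leaf ⟨[6],18,0⟩) (.leaf ⟨[5,4,6,5],26,3⟩)) (.node (.leaf ⟨[5,6,5,4],26,1⟩) (.leaf ⟨[6],18,0⟩))) (.node (.node (.leaf ⟨[4,6,4],24,3⟩) (.leaf ⟨[4,5,6,5],31,3⟩)) (.node (.leaf ⟨[3,6,3,6,3],22,0⟩) (.leaf ⟨[6],18,0⟩))))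
noncomputable def l2r7 : Bt Ru := (.leaf ⟨[0,0],10,0⟩)
noncomputable def l0T : List (Bt Nat) := [l0t0, l0t1, l0t2, l0t3, l0t4, l0t5, l0t6, l0t7, l0t8]
noncomputable def l0R : List (Bt Ru) := [l0r0, l0r1, l0r2, l0r3, l0r4, l0r5, l0r6, l0r7]
noncomputable def l0c (a lo cnt : Nat) : Nat := chk (gT l0T (nat_lit 14)) (rT l0R) (nat_lit 14) (nat_lit 0x3fffc0) (nat_lit 0x3fc000) (nat_lit 0x3fc0) (nat_lit 7) (nat_lit 22) (nat_lit 0xffff) (nat_lit 0x8000003fffffffff) (nat_lit 21) (nat_lit 40) (nat_lit 125) (nat_lit 0x311480) a (nfOf [0,1,2,3,4,5,6] 49980 a) lo cnt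
noncomputable def l0f (a : Nat) : Nat := l0c a 0 255
noncomputable def l0m (lo cnt : Nat) : Nat := chkM (gT l0T (nat_lit 14)) (nat_lit 14) (nat_lit 0x3fffc0) (nat_lit 0x3fc000) (nat_lit 0x3fc0) (nat_lit 7) lo cnt
noncomputable def l1T : List (Bt Nat) := [l1t0, l1t1, l1t2, l1t3, l1t4, l1t5, l1t6, l1t7, l1t8]
noncomputable def l1R : List (Bt Ru) := [l1r0, l1r1, l1r2, l1r3, l1r4, l1r5, l1r6, l1r7]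
noncomputable def l1c (a lo cnt : Nat) : Nat := chk (gT l1T (nat_lit 14)) (rT l1R) (nat_lit 14) (nat_lit 0xffc0) (nat_lit 0xc000) (nat_lit 0x3fc0) (nat_lit 7) (nat_lit 16) (nat_lit 1023) (nat_lit 0x8000000003ffffff) (nat_lit 12) (nat_lit 22) (nat_lit 120) (nat_lit 0xbd40) a (nfOf [0,2,3,4,5,6] 480 a) lo cnt
noncomputable def l1f (a : Nat) : Nat := l1c a 0 3
noncomputable def l1m (lo cnt : Nat) : Nat := chkM (gT l1T (nat_lit 14)) (nat_lit 14) (nat_lit 0xffc0) (nat_lit 0xc000) (nat_lit 0x3fc0) (nat_lit 7) lo cnt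
noncomputable def l2T : List (Bt Nat) := [(.leaf (nat_lit 0)), (.leaf (nat_lit 0)), (.leaf (nat_lit 0)), l2t3, l2t4, l2t5, l2t6, (.leaf (nat_lit 0)), l2t8]
noncomputable def l2R : List (Bt Ru) := [l2r0, l2r1, l2r2, l2r3, l2r4, l2r5, l2r6, l2r7]
noncomputable def l2c (a lo cnt : Nat) : Nat := chk (gT l2T (nat_lit 14)) (rT l2R) (nat_lit 14) (nat_lit 0x7fc0) (nat_lit 0x4000) (nat_lit 0x3fc0) (nat_lit 7) (nat_lit 15) (nat_lit 511) (nat_lit 0x8000000000ffffff) (nat_lit 8) (nat_lit 14) (nat_lit 0) (nat_lit 0x69c0) a (nfOf [3,4,5,6] 168 a) lo cnt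
noncomputable def l2f (a : Nat) : Nat := l2c a 0 1
noncomputable def l2m (lo cnt : Nat) : Nat := chkM (gT l2T (nat_lit 14)) (nat_lit 14) (nat_lit 0x7fc0) (nat_lit 0x4000) (nat_lit 0x3fc0) (nat_lit 7) lo cnt

end Cfsg.Agent.TCX.He
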