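import Cfsg.Agent.Lib.TCX.He.C0
import Cfsg.Agent.Lib.TCX.Cert

set_option autoImplicit false
set_option maxRecDepth 100000
set_option Elab.async false

namespace Cfsg.Agent.TCX.He

open Cfsg.Agent.CG

/-- The relators used. -/
noncomputable def R : List (List ℕ) := [[1,1],
  [1,3,1,3],
  [1,4,1,4],
  [1,5,1,5],
  [1,6,1,6],
  [1,2,1,2,1,2],
  [2,2],
  [2,4,2,4],
  [2,5,2,5],
  [2,6,2,6],
  [0,0],
  [0,3,0,3],
  [0,4,0,4],
  [0,5,0,5],
  [0,6,0,6],
  [0,1,0,1,0,1,0,1],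
  [3,3],
  [4,4],
  [6,6],
  [4,3,4,3,4,3],
  [0,2,0,2],
  [5,5],
  [6,3,6,3,6,3],
  [4,5,4,5],
  [4,6,4,6],
  [5,3,5,3,5,3],
  [4,6,5,6,5],
  [6,5,3,2,6,5,3,2,6,5,3,2,6,5,3,2],
  [2,3,2,3,2,3,2,3,2,3,0],
  [0,3,2,3,2,3,2,3,2,3,2],
  [4,2,1,0,2,1,0,2,1,0],
  [5,6,5,6,4],
  [2,3,5,6,2,3,5,6,2,3,5,6,2,3,5,6],
  [0,1,2,0,1,2,0,1,2,4]]

noncomputable def invL : List ℕ := [0,1,2,3,4,5,6]

/-- How the relators used follow from the given ones. -/
noncomputable def hints : List (ℕ × Bool × List ℕ) := [(53,false,[]),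
  (17,false,[]),
  (14,false,[]),
  (15,false,[]),
  (16,false,[]),
  (13,false,[]),
  (53,false,[]),
  (21,false,[]),
  (22,false,[]),
  (23,false,[]),
  (53,false,[]),
  (10,false,[]),
  (7,false,[]),
  (8,false,[]),
  (9,false,[]),
  (5,false,[]),
  (53,false,[]),
  (53,false,[]),
  (53,false,[]),
  (31,false,[]),
  (6,false,[]),
  (53,false,[]),
  (45,false,[]),
  (29,false,[]),
  (30,false,[]),
  (38,false,[]),
  (0,false,[]),
  (3,true,[]),
  (2,true,[]),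
  (2,false,[]),
  (1,false,[]),
  (0,true,[]),
  (3,false,[]),
  (1,true,[])]

theorem l0g (a : ℕ) : Glue (l0c a) := fun _ _ _ => chk_append
theorem l0f0 : l0f 0 = 0 :=
  show l0c 0 0 255 = 0 from (l0g 0).app (n := 255) (c0) c1 rfl rfl
theorem l0f1 : l0f 1 = 0 :=
  show l0c 1 0 255 = 0 from (l0g 1).app (n := 255) (c2) c3 rfl rfl
theorem l0f2 : l0f 2 = 0 :=
  show l0c 2 0 255 = 0 from (l0g 2).app (n := 255) (c4) c5 rfl rfl
theorem l0f3 : l0f 3 = 0 :=
  show l0c 3 0 255 = 0 from (l0g 3).app (n := 255) (c6) c7 rfl rfl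
theorem l0f4 : l0f 4 = 0 :=
  show l0c 4 0 255 = 0 from (l0g 4).app (n := 255) (c8) c9 rfl rfl
theorem l0f5 : l0f 5 = 0 :=
  show l0c 5 0 255 = 0 from (l0g 5).app (n := 255) (c10) c11 rfl rfl
theorem l0f6 : l0f 6 = 0 :=
  show l0c 6 0 255 = 0 from (l0g 6).app (n := 255) (c12) c13 rfl rfl
theorem l0f7 : l0f 7 = 0 :=
  show l0c 7 0 255 = 0 from c14
theorem l0all : ∀ a, a < 8 → l0f a = 0 :=
  allz_snoc (allz_snoc (allz_snoc (allz_snoc (allz_snoc (allz_snoc (allz_snoc (allz_snoc (allz_zero _) l0f0) l0f1) l0f2) l0f3) l0f4) l0f5) l0f6) l0f7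
theorem l0ru : allLt (rusChk R (nat_lit 7) l0R) 8 = true := by decide +kernel
theorem l0gm : Glue l0m := fun _ _ _ => chkM_append
theorem l0mm : l0m 49980 23 = 0 := c15
theorem l0_ok : Idx R [0,1,2,3,4,5,6] [0,2,3,4,5,6] 49980 :=
  idx_of_chk (cm := 23) (q := 8) (d := 8) (s2 := 38) (full := 255) (f := l0f) (by decide +kernel) (by decide +kernel) (fun _ => rfl) l0all l0ru (by decide +kernel) (by decide +kernel) l0mm

theorem l1all : ∀ a, a < 8 → l1f a = 0 :=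
  allz_of_orR c16
theorem l1ru : allLt (rusChk R (nat_lit 7) l1R) 8 = true := by decide +kernel
theorem l1gm : Glue l1m := fun _ _ _ => chkM_append
theorem l1mm : l1m 480 22 = 0 := c17
theorem l1_ok : Idx R [0,2,3,4,5,6] [3,4,5,6] 480 :=
  idx_of_chk (cm := 22) (q := 8) (d := 2) (s2 := 26) (full := 3) (f := l1f) (by decide +kernel) (by decide +kernel) (fun _ => rfl) l1all l1ru (by decide +kernel) (by decide +kernel) l1mm

theorem l2all : ∀ a, a < 8 → l2f a = 0 :=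
  allz_of_orR c18
theorem l2ru : allLt (rusChk R (nat_lit 7) l2R) 8 = true := by decide +kernel
theorem l2gm : Glue l2m := fun _ _ _ => chkM_append
theorem l2mm : l2m 168 0 = 0 := c19
theorem l2_ok : Idx R [3,4,5,6] [] 168 :=
  idx_of_chk (cm := 0) (q := 8) (d := 1) (s2 := 24) (full := 1) (f := l2f) (by decide +kernel) (by decide +kernel) (fun _ => rfl) l2all l2ru (by decide +kernel) (by decide +kernel) l2mm

theorem bounds : Bounds R [0,1,2,3,4,5,6] 4030387200 := fun _ _ y hR =>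
  (show 49980 * (480 * (168 * (1))) = 4030387200 by decide +kernel) ▸ l0_ok.bound hR (l1_ok.bound hR (l2_ok.bound hR (bound_nil y)))

end Cfsg.Agent.TCX.He
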